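import Cfsg.Agent.Lib.PS4.Defs
import Cfsg.Agent.Lib.Spor55.Sp4Fus

/-! # The Sylow 2-subgroup of `PSp₄(q)` -/

set_option autoImplicit false

namespace H13.PS

open Subgroup Cfsg H69 H45 Gold
open scoped MatrixGroups

/-- the structure on the image of the wreath product -/
theorem ps_wr {F : Type*} [Field F] (h2 : (2 : F) ≠ 0) {k : ℕ} (ψ : QG k →* SL(2, F))
    (hψ : Function.Injective ψ) :
    ∃ h : PS ((H55.Sp4.pr F).comp ((H55.Sp4.io F).comp (ψ.prodMap ψ))) (H55.Sp4.pr F (H55.Sp4.tt F)),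
      h.S = (H55.Sp4.wr ψ.range).map (H55.Sp4.pr F) := by
  have hz : ψ (z0 k) = -1 :=
    (H64.SL2.mem_center_iff'.1 (H64.SL2.mem_center_of_mul_self_eq_one h2
      (by rw [← map_mul, zz, map_one]))).resolve_left fun e => z_ne (hψ (e.trans (map_one ψ).symm))
  refine ⟨⟨by rw [← map_mul, H55.Sp4.tt_tt, map_one], fun x y => ?_, fun x y => ?_⟩, ?_⟩
  · change _ * H55.Sp4.pr F (H55.Sp4.io F (ψ x, ψ y)) = H55.Sp4.pr F (H55.Sp4.io F (ψ y, ψ x)) * _
    rw [← map_mul, H55.Sp4.tt_io, map_mul]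
  · change H55.Sp4.pr F (H55.Sp4.io F (ψ x, ψ y)) = 1 ↔ _
    rw [QuotientGroup.mk'_apply, QuotientGroup.eq_one_iff, H55.Sp4.mem_center_iff,
      ← map_one (H55.Sp4.io F), ← Prod.mk_one_one, H55.Sp4.io_eq, H55.Sp4.io_eq, ← hz, ← map_one ψ,
      hψ.eq_iff, hψ.eq_iff, hψ.eq_iff, hψ.eq_iff]
  · refine le_antisymm (PS.S_le _ (fun p => ⟨_, H55.Sp4.io_mem.2 ⟨⟨p.1, rfl⟩, ⟨p.2, rfl⟩⟩, rfl⟩)
      ⟨_, H55.Sp4.tt_mem, rfl⟩) ?_
    rintro _ ⟨_, ⟨_, ⟨x, rfl⟩, _, ⟨y, rfl⟩, rfl | rfl⟩, rfl⟩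
    exacts [⟨x, y, Or.inl rfl⟩, ⟨x, y, Or.inr (map_mul ..)⟩]

/-- the structure on a Sylow subgroup of the projective symplectic group -/
theorem exists_PS_PSp {F : Type*} [Field F] [Finite F] (hF : Odd (Nat.card F)) :
    ∃ (k : ℕ) (φ : QG k × QG k →* Cfsg.PSp 2 F) (s : Cfsg.PSp 2 F) (h : PS φ s)
      (S : Sylow 2 (Cfsg.PSp 2 F)), h.S = S := by
  obtain ⟨P⟩ : Nonempty (Sylow 2 SL(2, F)) := inferInstance
  obtain ⟨k, hk, -, -, h, -⟩ := H10.exists_sylow_two_SL_two hF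
  obtain ⟨k, rfl⟩ : ∃ l, k = l + 1 := ⟨k - 1, by omega⟩
  obtain ⟨e⟩ : Nonempty ((P : Subgroup SL(2, F)) ≃* QG k) := h P
  obtain ⟨h, hS⟩ := ps_wr (H10.two_ne_zero_of_odd_card hF)
    ((P : Subgroup SL(2, F)).subtype.comp e.symm.toMonoidHom)
    (Subtype.val_injective.comp e.symm.injective)
  have hr : ((P : Subgroup SL(2, F)).subtype.comp e.symm.toMonoidHom).range = P := by
    rw [MonoidHom.range_comp, MonoidHom.range_eq_top.2 e.symm.surjective, ← MonoidHom.range_eq_map,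
      range_subtype]
  obtain ⟨m, hm, e⟩ := H55.Sp4.card_Sp hF
  obtain ⟨n, hn⟩ := P.isPGroup'.exists_card_eq
  obtain ⟨S, hS'⟩ := H55.Fus.exists_sylow (p := 2) (S := H55.Sp4.wr (P : Subgroup SL(2, F)))
    (n := 2 * n + 1) (m := (P : Subgroup SL(2, F)).index ^ 2 * m)
    (by rw [H55.Sp4.card_wr, hn]; ring)
    (by rw [e, ← card_mul_index (P : Subgroup SL(2, F)), hn]; ring)
    (((Nat.odd_iff.2 (Nat.two_dvd_ne_zero.1 P.not_dvd_index)).pow.mul hm).not_two_dvd_nat)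
  exact ⟨k, _, _, h, S.mapSurjective (QuotientGroup.mk'_surjective _), by
    rw [hS, hr, Sylow.coe_mapSurjective, hS']⟩

theorem exists_PS {G : Type*} [Group G] [Finite G] {F : Type*} [Field F] [Fintype F]
    (hF : Odd (Fintype.card F)) (S : Sylow 2 G) (P : Sylow 2 (Cfsg.PSp 2 F))
    (hS : Nonempty ((S : Subgroup G) ≃* (P : Subgroup (Cfsg.PSp 2 F)))) :
    ∃ (k : ℕ) (φ : QG k × QG k →* G) (s : G) (h : PS φ s), IsSylowIn 2 h.S ⊤ := by
  obtain ⟨k, φ, s, h, T, hT⟩ := exists_PS_PSp (F := F) (Nat.card_eq_fintype_card (α := F) ▸ hF)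
  obtain ⟨e⟩ := hS
  let π : (T : Subgroup (Cfsg.PSp 2 F)) →* G :=
    (S : Subgroup G).subtype.comp ((T.equiv P).trans e.symm).toMonoidHom
  have hπ : Function.Injective π := Subtype.val_injective.comp (MulEquiv.injective _)
  have hr : π.range = S := by
    rw [MonoidHom.range_comp, MonoidHom.range_eq_top.2 (MulEquiv.surjective _),
      ← MonoidHom.range_eq_map, range_subtype]
  refine ⟨k, _, _, (h.restr hT.le).map π fun p e => hπ (e.trans (map_one π).symm), ?_⟩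
  rw [(h.restr hT.le).map_S π fun p e => hπ (e.trans (map_one π).symm), h.restr_S hT.le, hT,
    subgroupOf_self, ← MonoidHom.range_eq_map, hr]
  exact isSylowIn_top S

end H13.PS
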