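import Cfsg.Agent.Lib.PS4.Defs
import Cfsg.Agent.Lib.ZD.BW

/-! # The signalizer functor -/

set_option autoImplicit false
set_option linter.unusedSectionVars false

namespace H13.PS

open Subgroup Cfsg H69 H45 Gold
open scoped commutatorElement

universe u
variable {G : Type u} [Group G] [Finite G] {Z : Set G}

theorem Th_cj (y w g : G) : Th y w ^ᶜ g = Th (g * y * g⁻¹) (g * w * g⁻¹) := by
  rw [Th, Th, cj_sup, cj_commutator, cj_inf, Oc_cj, Oc_cj, cj_zpowers]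

theorem WW_cj (w y g : G) : WW w y ^ᶜ g = WW (g * w * g⁻¹) (g * y * g⁻¹) := by
  rw [WW, WW, cj_sup, cj_sup, Oc_cj, Th_cj, Th_cj, conj_mul]

theorem cent_mul {a b : G} : 𝐂[a] ⊓ 𝐂[b] ≤ 𝐂[a * b] := fun _ hx =>
  mem_cent1_comm.1 (mul_mem (mem_cent1_comm.1 hx.1) (mem_cent1_comm.1 hx.2))

theorem cent_of_mul {a b x : G} (h1 : x ∈ 𝐂[a]) (h2 : x ∈ 𝐂[a * b]) : x ∈ 𝐂[b] :=
  mem_cent1_comm.1 ((mul_mem_cancel_left (mem_cent1_comm.1 h1)).1 (mem_cent1_comm.1 h2))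

theorem cent_of_mul' {a b x : G} (h1 : x ∈ 𝐂[b]) (h2 : x ∈ 𝐂[a * b]) : x ∈ 𝐂[a] :=
  mem_cent1_comm.1 ((mul_mem_cancel_right (mem_cent1_comm.1 h1)).1 (mem_cent1_comm.1 h2))

theorem odd_le_res {Y L : Subgroup G} (hY : OddS Y) (h : Y ≤ L) : Y ≤ 𝐑(2, L) :=
  fun _ hx => mem_res (h hx) (Nat.coprime_two_right.2 (hY.odd hx))

theorem Od_res_le (y : G) : Od 𝐑(2, 𝐂[y]) ≤ Oc y := Od_le_Od (res_le _) (le_normalizer_res _)

theorem left_cent {w v : G} (c : w * v = v * w) : w ∈ 𝐂[w * v] :=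
  mem_cent1_iff.2 (by rw [mul_assoc, ← c])

theorem SG0.zn (h : SG0 Z) {w v : G} (hw : w ∈ Z) (hv : v ∈ Z) (n : w ≠ v) (c : w * v = v * w)
    {g : G} (hg : g ∈ 𝐑(2, 𝐂[w * v])) : ∃ x, x * w = w * x ∧ ∃ o ∈ Oc (w * v), g = x * o := by
  have wy := left_cent c
  have w2 := h.sq w hw
  have wn : zpowers w ≤ 𝐍(𝐑(2, 𝐂[w * v])) := (zpowers_le.2 wy).trans (le_normalizer_res _)
  have hH : 𝐑(2, 𝐂[w * v]) ⊔ zpowers w ≤ 𝐂[w * v] := sup_le (res_le _) (zpowers_le.2 wy)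
  refine (ZS' (H := 𝐑(2, 𝐂[w * v]) ⊔ zpowers w) (v := w) (mem_sup_right (mem_zpowers w)) w2
    (fun e => h.pair w hw w hw rfl (by rw [w2, ← e]; exact hw)) (fun γ hγ cw => ?_) (mem_sup_left hg)).imp
    fun x ⟨hx, o, ho, e⟩ => ⟨hx, o, Od_res_le _ (Od_inf_le le_sup_left
      ⟨ho, odd_le_res (Od_odd _) ((Od_le _).trans hH) ho⟩), e⟩
  by_contra n1
  have e1 : γ * w * γ⁻¹ * (γ * v * γ⁻¹) = w * v := by rw [conj_mul, cjc, mem_cent1_iff.1 (hH hγ)]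
  have c1 : γ * w * γ⁻¹ ∈ 𝐂[w * v] := mul_mem (mul_mem (hH hγ) wy) (inv_mem (hH hγ))
  have c2 : γ * w * γ⁻¹ ∈ 𝐂[v] := cent_of_mul (mem_cent1_iff.2 cw) c1
  by_cases n2 : v = γ * w * γ⁻¹
  · refine h.nres w hw v hv n c ?_
    obtain ⟨r, hr, t, ht, rfl⟩ := (mem_sup_of_le_normalizer_left wn).1 hγ
    have e2 : r * t * w * (r * t)⁻¹ = r * w * r⁻¹ := by
      rw [← cj_cj', cjc.2 (mem_cent1_iff.1 (zpowers_le_cent1 w ht))]
    have := mul_mem (conj_mem_of_mem_normalizer (wn (mem_zpowers w)) hr) (inv_mem hr)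
    rw [inv_eq_of_mul_eq_one_right w2] at this
    convert this using 1
    rw [n2, e2]
    simp only [mul_assoc]
  · refine h.tri w hw v hv _ (h.cj w hw γ) c cw.symm (mem_cent1_iff.1 c2).symm n (Ne.symm n1) n2 ?_
    rw [← mem_cent1_iff.1 c1, ← e1, ← mul_assoc, cj_sq γ w2, one_mul]
    exact h.cj v hv γ

theorem SG0.B1 (h : SG0 Z) {w v : G} (hw : w ∈ Z) (hv : v ∈ Z) (c : w * v = v * w) :
    Oc w ⊓ 𝐂[v] ≤ Oc v := by
  by_cases n : v = w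
  · rw [n]
    exact inf_le_left
  · exact h.b1 v hv w hw n c.symm _ ((Oc_odd w).mono inf_le_left) (le_inf inf_le_right (inf_le_left.trans (Oc_le w)))
      (le_normalizer_inf (inf_le_right.trans (cent_norm_Oc w)) (le_normalizer_of_le inf_le_left))

theorem SG0.B3 (h : SG0 Z) {w v : G} (hw : w ∈ Z) (hv : v ∈ Z) (n : w ≠ v) (c : w * v = v * w) :
    Oc (w * v) ⊓ 𝐂[w] ≤ Oc w :=
  h.b1 w hw v hv n c _ ((Oc_odd _).mono inf_le_left) (fun _ hx => ⟨hx.2, cent_of_mul hx.2 (Oc_le _ hx.1)⟩)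
    (le_normalizer_inf (cent_mul.trans (cent_norm_Oc _)) (le_normalizer_of_le inf_le_left))

theorem SG0.B2' (h : SG0 Z) {w v : G} (hw : w ∈ Z) (hv : v ∈ Z) (n : w ≠ v) (c : w * v = v * w) :
    Oc w ⊓ 𝐂[w * v] ≤ Oc (w * v) := by
  have ho : OddS (Oc (w * v) ⊔ Oc w ⊓ 𝐂[w * v] : Subgroup G) :=
    (Oc_odd _).sup ((Oc_odd w).mono inf_le_left) (inf_le_right.trans (cent_norm_Oc _))
  refine le_sup_right.trans ((le_Od (odd_le_res ho (sup_le (Oc_le _) inf_le_right)) ho fun g hg => ?_).trans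
    (Od_res_le _))
  obtain ⟨x, hx, o, h1, rfl⟩ := h.zn hw hv n c hg
  have h2 : x ∈ 𝐂[w * v] := (mul_mem_cancel_right (Oc_le _ h1)).1 (res_le _ hg)
  exact mul_mem (le_normalizer_sup (inf_le_right.trans (cent_norm_Oc _)) (le_normalizer_inf
    (inf_le_left.trans (cent_norm_Oc w)) (le_normalizer_of_le inf_le_right)) ⟨mem_cent1_iff.2 hx, h2⟩)
    (le_normalizer (mem_sup_left h1))

theorem SG0.B2 (h : SG0 Z) {x w v : G} (hx : x ∈ Z) (hw : w ∈ Z) (hv : v ∈ Z) (n : w ≠ v) (c : w * v = v * w)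
    (c' : x * w = w * x) : Oc x ⊓ 𝐂[w * v] ≤ Oc (w * v) := fun γ hγ => by
  have wy := left_cent c
  have w2 := h.sq w hw
  have k : ∀ {K : Subgroup G} {g : G}, w ∈ 𝐍(K) → g ∈ K → g⁻¹ * w * g * w ∈ K := fun {K g} a b => by
    have := mul_mem (inv_mem b) (conj_mem_of_mem_normalizer a b)
    rwa [inv_eq_of_mul_eq_one_right w2, ← mul_assoc, ← mul_assoc] at this
  obtain ⟨p, hp, o, ho, e⟩ := h.zn hw hv n c (odd_le_res ((Oc_odd x).mono inf_le_left) inf_le_right hγ)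
  obtain ⟨r, hr, -, h1⟩ := lift (K := Oc x ⊓ Oc (w * v)) (g := γ) ((Oc_odd x).mono inf_le_left) w2
    ⟨k (cent_norm_Oc x (mem_cent1_iff.2 c'.symm)) hγ.1, by
      have := k (cent_norm_Oc _ wy) ho
      rwa [e, mul_inv_rev, mul_assoc o⁻¹, mul_assoc o⁻¹, ← mul_assoc _ p, mul_assoc p⁻¹, ← hp, inv_mul_cancel_left,
        ← mul_assoc]⟩
  exact (mul_mem_cancel_right (H := Oc (w * v)) hr.2).1 (h.B2' hw hv n c
    ⟨h.B1 hx hw c' ⟨mul_mem hγ.1 hr.1, mem_cent1_iff.2 h1⟩, mul_mem hγ.2 (Oc_le _ hr.2)⟩)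

theorem Fr.t2 (h : SG0 Z) {e : Fin 5 → G} (f : Fr Z e) {i j l : Fin 5} (n1 : i ≠ j) (n2 : i ≠ l)
    (n3 : j ≠ l) : T2 Z (e i) (e j * e l) where
  mem := f.mem i
  sq := H24.ZD.mul_sq_of_comm (h.sq _ (f.mem j)) (h.sq _ (f.mem l)) (f.comm j l)
  comm := by rw [← mul_assoc, f.comm i, mul_assoc, f.comm i, mul_assoc]
  n1 := h.pair _ (f.mem j) _ (f.mem l) (f.comm j l)
  n2 := mul_assoc (e i) _ _ ▸ h.tri _ (f.mem i) _ (f.mem j) _ (f.mem l) (f.comm i j) (f.comm i l) (f.comm j l)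
    (f.inj.ne n1) (f.inj.ne n2) (f.inj.ne n3)

/-! ### frames -/

/-- the elementary abelian group of order 16 -/
abbrev V4 : Type := ℤˣ × ℤˣ × ℤˣ × ℤˣ

/-- the standard frame -/
def bv : Fin 5 → V4 := ![(-1, -1, -1, -1), (-1, 1, 1, 1), (1, -1, 1, 1), (1, 1, -1, 1), (1, 1, 1, -1)]

/-- the homomorphism given by an involution -/
def sgh (t : G) (h : t * t = 1) : ℤˣ →* G where
  toFun a := if a = 1 then 1 else t
  map_one' := if_pos rfl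
  map_mul' a b := by
    rcases Int.units_eq_one_or a with rfl | rfl <;> rcases Int.units_eq_one_or b with rfl | rfl <;> simp [h]

theorem sgh_comm {t t' : G} (h : t * t = 1) (h' : t' * t' = 1) (c : t * t' = t' * t) (a b : ℤˣ) :
    Commute (sgh t h a) (sgh t' h' b) := by
  simp only [sgh, MonoidHom.coe_mk, OneHom.coe_mk]
  split_ifs
  exacts [Commute.refl _, Commute.one_left _, Commute.one_right _, c]

theorem bv_cases : ∀ v : V4, v = 1 ∨ (∃ i, v = bv i) ∨ ∃ j l, j ≠ l ∧ v = bv j * bv l := by decide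

theorem Fr.psi (h : SG0 Z) {e : Fin 5 → G} (f : Fr Z e) :
    ∃ ψ : V4 →* G, Function.Injective ψ ∧ ∀ i, ψ (bv i) = e i := by
  have q := fun i => h.sq _ (f.mem i)
  have c := fun i j => sgh_comm (q i) (q j) (f.comm i j)
  let ψ : V4 →* G := (sgh _ (q 1)).noncommCoprod ((sgh _ (q 2)).noncommCoprod
    ((sgh _ (q 3)).noncommCoprod (sgh _ (q 4)) (c 3 4)) fun a b => (c 2 3 a b.1).mul_right (c 2 4 a b.2))
    fun a b => (c 1 2 a b.1).mul_right ((c 1 3 a b.2.1).mul_right (c 1 4 a b.2.2))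
  have k : ∀ i, ψ (bv i) = e i := fun i => by
    fin_cases i <;> simp [ψ, bv, sgh]
    have := f.prod
    simp only [mul_assoc] at this
    rw [← inv_eq_of_mul_eq_one_right this, inv_eq_of_mul_eq_one_right (q 0)]
  refine ⟨ψ, (injective_iff_map_eq_one ψ).2 fun v hv => ?_, k⟩
  rcases bv_cases v with a | ⟨i, rfl⟩ | ⟨j, l, n, rfl⟩
  · exact a
  · exact (h.pair _ (f.mem i) _ (f.mem i) rfl (by rw [q, ← hv, k]; exact f.mem i)).elim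
  · rw [map_mul, k, k] at hv
    exact (n (f.inj (mul_left_cancel ((q j).trans hv.symm)))).elim

theorem Fr.perm (h : SG0 Z) {e : Fin 5 → G} (f : Fr Z e) (σ : Equiv.Perm (Fin 5)) : Fr Z (e ∘ σ) where
  mem _ := f.mem _
  comm _ _ := f.comm _ _
  inj := f.inj.comp σ.injective
  prod := by
    obtain ⟨ψ, -, k⟩ := f.psi h
    simp only [Function.comp_apply, ← k, ← map_mul]
    rw [← Fin.prod_univ_five fun i => bv (σ i), Equiv.prod_comp σ bv, show ∏ i, bv i = 1 by decide, map_one]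

theorem exists_perm {i j l : Fin 5} (n1 : i ≠ j) (n2 : i ≠ l) (n3 : j ≠ l) :
    ∃ σ : Equiv.Perm (Fin 5), σ 3 = i ∧ σ 1 = j ∧ σ 2 = l := by
  obtain ⟨σ, h⟩ := Equiv.Perm.exists_extending_pair (f := ![(3 : Fin 5), 1, 2]) (g := ![i, j, l]) (by decide)
    (by revert i j l; decide)
  exact ⟨σ, h 0, h 1, h 2⟩

/-- the functor -/
def Kf (e : Fin 5 → G) (a : G) : Subgroup G := ⨆ i, Oc a ⊓ Oc (e i)

theorem Kf_le {e : Fin 5 → G} (a : G) : Kf e a ≤ Oc a := iSup_le fun _ => inf_le_left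

theorem le_Kf {e : Fin 5 → G} (a : G) (i : Fin 5) : Oc a ⊓ Oc (e i) ≤ Kf e a :=
  le_iSup (fun i => Oc a ⊓ Oc (e i)) i

theorem Kf_perm {e : Fin 5 → G} (σ : Equiv.Perm (Fin 5)) (a : G) : Kf (e ∘ σ) a = Kf e a :=
  σ.iSup_comp (g := fun i => Oc a ⊓ Oc (e i))

theorem norm_Kf {e : Fin 5 → G} {a g : G} (h1 : g ∈ 𝐂[a]) (h2 : ∀ i, g ∈ 𝐂[e i]) : g ∈ 𝐍(Kf e a) := by
  rw [← cj_eq_self_iff, Kf, cj_iSup]
  simp only [cj_inf, cj_eq_of_mem_normalizer (cent_norm_Oc _ h1), cj_eq_of_mem_normalizer (cent_norm_Oc _ (h2 _))]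

/-- the inner functor -/
def Tf (e : Fin 5 → G) (y a : G) : Subgroup G := Oc y ⊓ 𝐂[a] ⊓ ⨅ i, ⨅ (_ : e i = a ∨ e i = a * y), Oc (e i)

theorem mem_Tf {e : Fin 5 → G} {y a x : G} :
    x ∈ Tf e y a ↔ (x ∈ Oc y ∧ x ∈ 𝐂[a]) ∧ ∀ i, e i = a ∨ e i = a * y → x ∈ Oc (e i) := by
  simp only [Tf, mem_inf, mem_iInf]

theorem psi_cent (ψ : V4 →* G) (a b : V4) : ψ a ∈ 𝐂[ψ b] :=
  mem_cent1_iff.2 (by rw [← map_mul, ← map_mul, mul_comm])

theorem psi_sq (ψ : V4 →* G) (a : V4) : ψ a * ψ a = 1 := by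
  rw [← map_mul, (by decide : ∀ a : V4, a * a = 1), map_one]

set_option synthInstance.maxSize 2000 in
theorem in_cases : ∀ α : V4, α ≠ 1 → α ≠ bv 1 * bv 2 → ∀ i, i = 1 ∨ i = 2 ∨
    (∃ j, bv j = α ∨ bv j = α * (bv 1 * bv 2)) ∨ α = bv i * bv 1 ∨ α = bv i * bv 2 ∨
    (i ≠ 1 ∧ i ≠ 2 ∧ α ≠ bv i * (bv 1 * bv 2) ∧ ∃ j l, i ≠ j ∧ i ≠ l ∧ j ≠ l ∧ α = bv j * bv l) := by
  decide +kernel

/-- a complement to the product of two members of the frame -/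
def V3 : Subgroup V4 := ((MonoidHom.fst _ _).comp (MonoidHom.snd ℤˣ (ℤˣ × ℤˣ × ℤˣ))).ker

theorem mem_V3 {v : V4} : v ∈ V3 ↔ v.2.1 = 1 := Iff.rfl

theorem card_V3 : 8 ≤ Nat.card V3 := by
  have : Function.Injective fun p : ℤˣ × ℤˣ × ℤˣ => (⟨(p.1, 1, p.2), rfl⟩ : V3) := fun p q e => by
    simpa [Prod.ext_iff] using congrArg Subtype.val e
  simpa using Nat.card_le_card_of_injective _ this

namespace SG

variable (h : SG Z) {e : Fin 5 → G} (f : Fr Z e)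
include h f

theorem inner : Kf e (e 1 * e 2) ⊓ 𝐂[e 3] ≤ Oc (e 3) ∧
    MulEq (Kf e (e 1 * e 2)) (Oc (e 1 * e 2) ⊓ 𝐂[e 3]) (Oc (e 1 * e 2)) := by
  obtain ⟨ψ, hψ, k⟩ := f.psi h.toSG0
  have B1 : ∀ i j, Oc (e i) ⊓ 𝐂[e j] ≤ Oc (e j) := fun i j => h.B1 (f.mem i) (f.mem j) (f.comm i j)
  have B31 := h.B3 (f.mem 1) (f.mem 2) (f.inj.ne (by decide)) (f.comm 1 2)
  have B32 := h.B3 (f.mem 2) (f.mem 1) (f.inj.ne (by decide)) (f.comm 2 1)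
  rw [f.comm 2 1] at B32
  set y := e 1 * e 2 with hy
  have ky : ψ (bv 1 * bv 2) = y := by rw [map_mul, k, k]
  have ce : ∀ {x a : G} {i}, x ∈ Oc y → x ∈ 𝐂[a] → e i = a ∨ e i = a * y → x ∈ 𝐂[e i] := by
    rintro x a i h1 h2 (t | t) <;> rw [t]
    exacts [h2, cent_mul ⟨h2, Oc_le _ h1⟩]
  have fa : ∀ {P : G → Prop}, (∀ α, α ∈ V3 → α ≠ 1 → P (ψ α)) → ∀ a ∈ V3.map ψ, a ≠ 1 → P a := by
    rintro P H _ ⟨α, hα, rfl⟩ a1
    exact H α hα fun t => a1 (by rw [t, map_one])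
  have nT : ∀ α β, ψ β ∈ 𝐍(Tf e y (ψ α)) := fun α β => mem_normalizer_of_cj_le fun x hx => by
    obtain ⟨x, hx', rfl⟩ := mem_cj'.1 hx
    rw [mem_Tf] at hx' ⊢
    exact ⟨⟨conj_mem_of_mem_normalizer (cent_norm_Oc _ (ky ▸ psi_cent ψ β _)) hx'.1.1,
      conj_mem_of_mem_normalizer (le_normalizer (psi_cent ψ β α)) hx'.1.2⟩, fun i t =>
      conj_mem_of_mem_normalizer (cent_norm_Oc _ (k i ▸ psi_cent ψ β _)) (hx'.2 i t)⟩
  obtain ⟨ho, hK⟩ := key_sft G (V3.map ψ) (ea_of_sq (by rintro _ ⟨α, -, rfl⟩; exact psi_sq ψ α))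
    ((card_map_of_injective hψ).ge.trans' card_V3) (Tf e y) (fun a _ _ => inf_le_left.trans inf_le_right)
    (fun a _ _ => (Oc_odd y).mono (inf_le_left.trans inf_le_left))
    (fa fun α _ _ => by rintro _ ⟨β, -, rfl⟩; exact nT α β)
    (fun a _ _ => ((Oc_odd y).mono (inf_le_left.trans inf_le_left)).solv key_ft)
    (fa fun α hα α1 b _ _ x hx => by
      obtain ⟨⟨⟨x1, x2⟩, x3⟩, x4⟩ : ((x ∈ Oc y ∧ x ∈ 𝐂[ψ α]) ∧ _) ∧ x ∈ 𝐂[b] := ⟨mem_Tf.1 hx.1, hx.2⟩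
      refine mem_Tf.2 ⟨⟨x1, x4⟩, fun i t => ?_⟩
      have x5 := ce x1 x4 t
      rcases in_cases α α1 (by rintro rfl; exact absurd (mem_V3.1 hα) (by decide)) i with
        rfl | rfl | ⟨j, t⟩ | rfl | rfl | ⟨i1, i2, n, j, l, n1, n2, n3, rfl⟩
      · exact B31 ⟨x1, x5⟩
      · exact B32 ⟨x1, x5⟩
      · exact B1 j i ⟨x3 j (by rw [← k j, ← ky, ← map_mul]; exact t.imp (congrArg ψ) (congrArg ψ)), x5⟩
      · rw [map_mul, k, k] at x2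
        exact B1 1 i ⟨B31 ⟨x1, cent_of_mul x5 x2⟩, x5⟩
      · rw [map_mul, k, k] at x2
        exact B1 2 i ⟨B32 ⟨x1, cent_of_mul x5 x2⟩, x5⟩
      · refine h.b5 (e i) y (ψ (bv j * bv l)) (f.t2 h.toSG0 i1 i2 (by decide))
          (by rw [map_mul, k, k]; exact f.t2 h.toSG0 n1 n2 n3) (ky ▸ mem_cent1_iff.1 (psi_cent ψ _ _))
          (ky ▸ hψ.ne (by rintro t; rw [t] at hα; exact absurd (mem_V3.1 hα) (by decide)))
          (by rw [← k i, ← ky, ← map_mul]; exact hψ.ne n) ⟨⟨x1, x5⟩, x2⟩)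
  set K := ⨆ a : {a : G // a ∈ V3.map ψ ∧ a ≠ 1}, Tf e y a with hKd
  have hK' : ∀ α : V4, α.2.1 = 1 → α ≠ 1 → K ⊓ 𝐂[ψ α] = Tf e y (ψ α) := fun α a b =>
    hK _ ⟨α, a, rfl⟩ ((map_ne_one_iff ψ hψ).2 b)
  have KO : K ≤ Oc y := iSup_le fun a => inf_le_left.trans inf_le_left
  have n1 : ∀ α : V4, α ≠ 1 → ψ α ≠ 1 := fun α => (map_ne_one_iff ψ hψ).2
  have nK : ∀ β, ψ β ∈ 𝐍(K) := fun β => by
    rw [← cj_eq_self_iff, hKd, cj_iSup]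
    refine iSup_congr ?_
    rintro ⟨_, ⟨α, -, rfl⟩, -⟩
    exact cj_eq_of_mem_normalizer (nT α β)
  have nO : ∀ β, ψ β ∈ 𝐍(Oc y) := fun β => cent_norm_Oc _ (ky ▸ psi_cent ψ β _)
  have T1 : ∀ (α : V4) (i), α.2.1 = 1 → α ≠ 1 → bv i = α ∨ bv i = α * (bv 1 * bv 2) →
      K ⊓ 𝐂[ψ α] ≤ Oc y ⊓ Oc (e i) := fun α i a b t x hx => by
    rw [hK' α a b, mem_Tf] at hx
    exact ⟨hx.1.1, hx.2 i (by rw [← k i, ← ky, ← map_mul]; exact t.imp (congrArg ψ) (congrArg ψ))⟩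
  have E : Kf e y = K := by
    refine le_antisymm (iSup_le fun i x hx => ?_) (gen4 (psi_sq ψ (bv 3)) (psi_sq ψ (bv 4)) (n1 _ (by decide))
      (n1 _ (by decide)) (hψ.ne (by decide)) (mem_cent1_iff.1 (psi_cent ψ _ _)) ho (nK _) (nK _)
      ((T1 _ 3 rfl (by decide) (by decide)).trans (le_Kf _ _)) ((T1 _ 4 rfl (by decide) (by decide)).trans (le_Kf _ _))
      (map_mul ψ _ _ ▸ (T1 _ 0 rfl (by decide) (by decide)).trans (le_Kf _ _)))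
    obtain ⟨α, a, b, t⟩ := (by decide : ∀ i, ∃ α : V4, α.2.1 = 1 ∧ α ≠ 1 ∧
      (α = bv i ∨ α = bv i * (bv 1 * bv 2))) i
    have x1 : x ∈ 𝐂[ψ α] := by
      rcases t with rfl | rfl
      · exact k i ▸ Oc_le _ hx.2
      · rw [map_mul, ky, k]
        exact cent_mul ⟨Oc_le _ hx.2, Oc_le _ hx.1⟩
    exact ((hK' α a b).ge (mem_Tf.2 ⟨⟨hx.1, x1⟩, fun j t => B1 i j ⟨hx.2, ce hx.1 x1 t⟩⟩)).1
  rw [E]
  refine ⟨k 3 ▸ (T1 _ 3 rfl (by decide) (by decide)).trans (k 3 ▸ inf_le_right), mulEq_of_card KO inf_le_left ?_⟩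
  have c := fun (X : Subgroup G) (a : OddS X) (b : ∀ β, ψ β ∈ 𝐍(X)) => H24.ZD.card_four (X := X) (psi_sq ψ (bv 1))
    (psi_sq ψ (bv 3)) (mem_cent1_iff.1 (psi_cent ψ _ _)) (n1 _ (by decide)) (n1 _ (by decide)) (hψ.ne (by decide))
    (oddS_iff.1 a) (b _) (b _)
  have c1 := c K ho nK
  have c2 := c _ (Oc_odd y) nO
  have e1 : K ⊓ 𝐂[ψ (bv 1)] = Oc y ⊓ 𝐂[ψ (bv 1)] := by
    refine le_antisymm (inf_le_inf_right _ KO) fun x hx => (hK' _ rfl (by decide)).ge (mem_Tf.2 ⟨hx, fun i t => ?_⟩)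
    exact B1 1 i ⟨B31 (k 1 ▸ hx), ce hx.1 hx.2 t⟩
  have e2 : K ⊓ 𝐂[ψ (bv 1 * bv 3)] = Oc y ⊓ 𝐂[ψ (bv 1 * bv 3)] := by
    refine le_antisymm (inf_le_inf_right _ KO) fun x hx => (hK' _ rfl (by decide)).ge (mem_Tf.2 ⟨hx, fun i t => ?_⟩)
    rw [← k i, ← ky, ← map_mul, hψ.eq_iff, hψ.eq_iff] at t
    exact absurd t (by clear t; revert i; decide)
  rw [← map_mul, e1, e2, k 3] at c1
  rw [← map_mul, k 3] at c2
  rw [← inf_assoc, inf_eq_left.2 KO]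
  have p := Nat.card_pos (α := ↥(Oc y ⊓ 𝐂[ψ (bv 1)] ⊓ 𝐂[e 3]))
  refine Nat.le_of_mul_le_mul_right (le_of_eq ?_) (pow_pos p 2)
  rw [mul_right_comm, c2, mul_right_comm (Nat.card K), c1]
  ring

theorem inner' {i j l : Fin 5} (n1 : i ≠ j) (n2 : i ≠ l) (n3 : j ≠ l) : Kf e (e j * e l) ⊓ 𝐂[e i] ≤ Oc (e i) ∧
    MulEq (Kf e (e j * e l)) (Oc (e j * e l) ⊓ 𝐂[e i]) (Oc (e j * e l)) := by
  obtain ⟨σ, rfl, rfl, rfl⟩ := exists_perm n1 n2 n3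
  have := h.inner (f.perm h.toSG0 σ)
  rwa [Kf_perm] at this

theorem Th_eq {i j l : Fin 5} (n1 : i ≠ j) (n2 : i ≠ l) (n3 : j ≠ l) : Th (e j * e l) (e i) = Kf e (e j * e l) := by
  obtain ⟨a, b⟩ := h.inner' f n1 n2 n3
  have n : zpowers (e i) ≤ 𝐍(Kf e (e j * e l)) := zpowers_le.2
    (norm_Kf (mem_cent1_iff.2 (f.t2 h.toSG0 n1 n2 n3).comm) fun m => mem_cent1_iff.2 (f.comm i m))
  refine le_antisymm (sup_le (commutator_le.2 fun o ho t ht => ?_) (le_Kf _ _)) ?_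
  · obtain ⟨p, hp, c, hc, rfl⟩ := b.exists_mul ho
    have e1 : c * t * c⁻¹ = t := conj_eq_of_mem_centralizer (centralizer_zpowers (e i) ▸ hc.2) ht
    have := mul_mem hp (conj_mem_of_mem_normalizer (n ht) (inv_mem hp))
    rwa [commutatorElement_def, ← cj_cj', e1, mul_assoc, mul_assoc, ← mul_assoc t]
  · rw [← comm_sup_cent ((Oc_odd _).mono (Kf_le _)) (El2.of_mul_self (h.sq _ (f.mem i))).isPGroup n,
      centralizer_zpowers]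
    exact sup_le_sup (commutator_mono (Kf_le _) le_rfl) (le_inf (inf_le_left.trans (Kf_le _)) a)

theorem outer : ∃ W : Subgroup G, OddS W ∧ (∀ i, W ⊓ 𝐂[e i] = Oc (e i)) ∧
    (∀ j l, j ≠ l → W ⊓ 𝐂[e j * e l] = Kf e (e j * e l)) ∧ (∀ i, e i ∈ 𝐍(W)) ∧
    ∀ i j l, i ≠ j → i ≠ l → j ≠ l → WW (e i) (e j * e l) = W := by
  obtain ⟨ψ, hψ, k⟩ := f.psi h.toSG0
  have B1 : ∀ i j, Oc (e i) ⊓ 𝐂[e j] ≤ Oc (e j) := fun i j => h.B1 (f.mem i) (f.mem j) (f.comm i j)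
  have n1 : ∀ α : V4, α ≠ 1 → ψ α ≠ 1 := fun α => (map_ne_one_iff ψ hψ).2
  have fa : ∀ {P : G → Prop}, (∀ α, α ≠ 1 → P (ψ α)) → ∀ a ∈ ψ.range, a ≠ 1 → P a := by
    rintro P H _ ⟨α, rfl⟩ a1
    exact H α fun t => a1 (by rw [t, map_one])
  have nT : ∀ α β, ψ β ∈ 𝐍(Kf e (ψ α)) := fun α β => norm_Kf (psi_cent ψ β α) fun i => k i ▸ psi_cent ψ β _
  have Q : ∀ β, β ≠ 1 → ∀ m, Oc (e m) ⊓ 𝐂[ψ β] ≤ Kf e (ψ β) := fun β b m => by
    refine le_trans (le_inf ?_ inf_le_left) (le_Kf _ m)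
    rcases bv_cases β with t | ⟨i, rfl⟩ | ⟨j, l, n, rfl⟩
    · exact (b t).elim
    · rw [k]
      exact B1 m i
    · rw [map_mul, k, k]
      exact h.B2 (f.mem m) (f.mem j) (f.mem l) (f.inj.ne n) (f.comm j l) (f.comm m j)
  obtain ⟨ho, hK⟩ := key_sft G ψ.range (ea_of_sq (by rintro _ ⟨α, rfl⟩; exact psi_sq ψ α))
    (by rw [← Nat.card_congr (ψ.ofInjective hψ).toEquiv]; simp) (Kf e) (fun a _ _ => (Kf_le a).trans (Oc_le a))
    (fun a _ _ => (Oc_odd a).mono (Kf_le a)) (fa fun α _ => by rintro _ ⟨β, rfl⟩; exact nT α β)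
    (fun a _ _ => ((Oc_odd a).mono (Kf_le a)).solv key_ft)
    (fa fun α a => fa fun β b => by
      rcases bv_cases α with t | ⟨i, rfl⟩ | ⟨j, l, n, rfl⟩
      · exact (a t).elim
      · rw [k]
        exact (inf_le_inf_right _ (Kf_le _)).trans (Q β b i)
      obtain ⟨p, q, r, ⟨p1, p2⟩, ⟨q1, q2⟩, ⟨r1, r2⟩, pq, t⟩ := (by decide +kernel : ∀ j l : Fin 5, j ≠ l → ∃ p q r,
        (p ≠ j ∧ p ≠ l) ∧ (q ≠ j ∧ q ≠ l) ∧ (r ≠ j ∧ r ≠ l) ∧ q ≠ p ∧ bv j * bv l = bv p * bv q * bv r) j l n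
      have P : ∀ m, m ≠ j → m ≠ l → Kf e (ψ (bv j * bv l)) ⊓ 𝐂[ψ β] ⊓ 𝐂[e m] ≤ Kf e (ψ β) := fun m m1 m2 x hx =>
        Q β b m ⟨(h.inner' f m1 m2 n).1 ⟨by simpa only [map_mul, k] using hx.1.1, hx.2⟩, hx.1.2⟩
      have nD : ∀ m, e m ∈ 𝐍(Kf e (ψ (bv j * bv l)) ⊓ 𝐂[ψ β]) := fun m => k m ▸
        le_normalizer_inf (L := zpowers (ψ (bv m))) (zpowers_le.2 (nT _ _))
          (zpowers_le.2 (le_normalizer (psi_cent ψ _ _))) (mem_zpowers _)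
      refine gen4 (h.sq _ (f.mem p)) (h.sq _ (f.mem q)) (k p ▸ n1 _ (by clear * -; revert p; decide))
        (k q ▸ n1 _ (by clear * -; revert q; decide)) (f.inj.ne pq) (f.comm p q)
        (((Oc_odd _).mono (Kf_le _)).mono inf_le_left) (nD p) (nD q) (P p p1 p2) (P q q1 q2)
        fun x hx => P r r1 r2 ⟨hx.1, cent_of_mul hx.2 ?_⟩
      have := Oc_le _ (Kf_le _ hx.1.1)
      rwa [t, map_mul, map_mul, k, k, k] at this)
  set W := ⨆ a : {a : G // a ∈ ψ.range ∧ a ≠ 1}, Kf e a with hW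
  have b1 : ∀ i, bv i ≠ 1 := by decide
  have a1 : ∀ i, W ⊓ 𝐂[e i] = Oc (e i) := fun i => by
    rw [hK _ ⟨_, k i⟩ (k i ▸ n1 _ (b1 i))]
    exact le_antisymm (Kf_le _) ((le_inf le_rfl le_rfl).trans (le_Kf _ i))
  have a2 : ∀ j l, j ≠ l → W ⊓ 𝐂[e j * e l] = Kf e (e j * e l) := fun j l n => by
    rw [← k j, ← k l, ← map_mul]
    exact hK _ ⟨_, rfl⟩ (n1 _ (by clear * - n; revert j l; decide))
  have a3 : ∀ β, ψ β ∈ 𝐍(W) := fun β => by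
    rw [← cj_eq_self_iff, hW, cj_iSup]
    refine iSup_congr ?_
    rintro ⟨_, ⟨α, rfl⟩, -⟩
    exact cj_eq_of_mem_normalizer (nT α β)
  refine ⟨W, ho, a1, a2, fun i => k i ▸ a3 _, fun i j l m1 m2 m3 => ?_⟩
  obtain ⟨p, q, p1, p2, pq, t⟩ := (by decide +kernel : ∀ i j l : Fin 5, i ≠ j → i ≠ l → j ≠ l → ∃ p q,
    i ≠ p ∧ i ≠ q ∧ p ≠ q ∧ bv i * (bv j * bv l) = bv p * bv q) i j l m1 m2 m3
  have t' : e i * (e j * e l) = e p * e q := by simpa only [map_mul, k] using congrArg ψ t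
  have T := f.t2 h.toSG0 m1 m2 m3
  rw [WW, t', h.Th_eq f m1 m2 m3, h.Th_eq f p1 p2 pq, ← a1, ← a2 _ _ m3, ← a2 _ _ pq, ← t']
  refine le_antisymm (sup_le (sup_le inf_le_left inf_le_left) inf_le_left) (gen4 (h.sq _ T.mem) T.sq
    (k i ▸ n1 _ (b1 i)) (fun t => m3 (f.inj (mul_left_cancel ((h.sq _ (f.mem j)).trans t.symm))))
    (fun t => T.n1 (t ▸ T.mem)) T.comm ho (k i ▸ a3 _) (mul_mem (k j ▸ a3 _) (k l ▸ a3 _))
    (le_sup_of_le_left le_sup_left) (le_sup_of_le_left le_sup_right) le_sup_right)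

theorem odd : OddS (WW (e 0) (e 1 * e 2)) := by
  obtain ⟨W, ho, -, -, -, k⟩ := h.outer f
  rwa [k 0 1 2 (by decide) (by decide) (by decide)]

theorem W_eq {i j l : Fin 5} (n1 : i ≠ j) (n2 : i ≠ l) (n3 : j ≠ l) :
    WW (e i) (e j * e l) = WW (e 0) (e 1 * e 2) := by
  obtain ⟨W, -, -, -, -, k⟩ := h.outer f
  rw [k 0 1 2 (by decide) (by decide) (by decide), k i j l n1 n2 n3]

theorem cover {i j l : Fin 5} (n1 : i ≠ j) (n2 : i ≠ l) (n3 : j ≠ l) :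
    Oc (e j * e l) ≤ WW (e 0) (e 1 * e 2) ⊔ 𝐂[e i] := by
  obtain ⟨W, -, -, a, -, k⟩ := h.outer f
  rw [k 0 1 2 (by decide) (by decide) (by decide), ← (h.inner' f n1 n2 n3).2.sup_eq, ← a j l n3]
  exact sup_le_sup inf_le_left inf_le_right

theorem ti (H : Oc (e 0 * e 1) ⊓ 𝐂[e 2] ≤ Oc (e 2)) :
    WW (e 0) (e 1 * e 2) = Oc (e 0) ⊔ Oc (e 1) ⊔ Oc (e 0 * e 1) := by
  obtain ⟨W, ho, a, b, c, k⟩ := h.outer f
  have n : ∀ i, e i ≠ 1 := fun i t => h.pair _ (f.mem i) _ (f.mem i) rfl (by rw [h.sq _ (f.mem i), ← t]; exact f.mem i)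
  rw [k 0 1 2 (by decide) (by decide) (by decide)]
  refine le_antisymm (gen4 (h.sq _ (f.mem 0)) (h.sq _ (f.mem 1)) (n 0) (n 1) (f.inj.ne (by decide)) (f.comm 0 1) ho
    (c 0) (c 1) ((a 0).le.trans (le_sup_of_le_left le_sup_left)) ((a 1).le.trans (le_sup_of_le_left le_sup_right))
    ((b 0 1 (by decide)).le.trans ((Kf_le _).trans le_sup_right)))
    (sup_le (sup_le ((a 0).ge.trans inf_le_left) ((a 1).ge.trans inf_le_left)) ?_)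
  rw [← (h.inner' f (i := 2) (j := 0) (l := 1) (by decide) (by decide) (by decide)).2.sup_eq]
  exact sup_le ((b 0 1 (by decide)).ge.trans inf_le_left) (H.trans ((a 2).ge.trans inf_le_left))

end SG

theorem eqns_SigA : True := by
  have := @bv.eq_1
  have := @sgh.eq_1.{0}
  have := @Kf.eq_1.{0}
  have := @Tf.eq_1.{0}
  have := @V3.eq_1
  have := @Th.eq_1.{0}
  have := @WW.eq_1.{0}
  trivial

end H13.PS
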